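import Cfsg.Agent.Lib.Helper11.LSF.Tree

/-!
# Finite subgroups of `FreeGroup X ⋊ Q` are conjugate into `Q` (consequences of
`tree_fixed_point`)
-/

namespace Cfsg.Agent.Lib.Helper11.LSF

variable {X : Type*} [DecidableEq X]

theorem norm_map_le' (f : X → X) (x : FreeGroup X) : (FreeGroup.map f x).norm ≤ x.norm := by
  conv_lhs => rw [← FreeGroup.mk_toWord (x := x)]
  rw [FreeGroup.map.mk]
  refine FreeGroup.norm_mk_le.trans ?_
  simp [FreeGroup.norm]

/-- renaming the basis by a bijection preserves the word norm. -/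
theorem norm_map_of_leftInverse (f g : X → X) (hgf : ∀ x, g (f x) = x) (x : FreeGroup X) :
    (FreeGroup.map f x).norm = x.norm := by
  refine le_antisymm (norm_map_le' f x) ?_
  have h := norm_map_le' g (FreeGroup.map f x)
  have e : FreeGroup.map g (FreeGroup.map f x) = x := by
    have : (FreeGroup.map g).comp (FreeGroup.map f) = MonoidHom.id _ := by
      ext a; simp [hgf]
    exact DFunLike.congr_fun this x
  rwa [e] at h

theorem norm_freeGroupCongr (e : X ≃ X) (x : FreeGroup X) :
    (FreeGroup.freeGroupCongr e x).norm = x.norm :=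
  norm_map_of_leftInverse e e.symm e.symm_apply_apply x

/-- a renaming of the basis never inverts a letter. -/
theorem map_letter_ne (f : X → X) (a : FreeGroup X) (ha : a.norm = 1) :
    FreeGroup.map f a ≠ a⁻¹ := by
  intro h
  obtain ⟨l, hl⟩ : ∃ l, a.toWord = [l] := List.length_eq_one_iff.mp ha
  have h1 : a = FreeGroup.mk [l] := by rw [← hl, FreeGroup.mk_toWord]
  rw [h1, FreeGroup.map.mk, FreeGroup.inv_mk] at h
  have := congrArg FreeGroup.toWord h
  simp [FreeGroup.toWord_mk, FreeGroup.invRev, FreeGroup.reduce_singleton] at this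

theorem freeGroupCongr_letter_ne (e : X ≃ X) (a : FreeGroup X) (ha : a.norm = 1) :
    FreeGroup.freeGroupCongr e a ≠ a⁻¹ :=
  map_letter_ne e a ha

/-- **Cocycle form.** `ρ` an action of the finite group `H` on `FreeGroup X` by automorphisms
preserving the norm and inverting no letter, `c` a 1-cocycle: then `c` is a coboundary. -/
theorem cocycle_fixed {H : Type*} [Group H] [Finite H] (ρ : H →* MulAut (FreeGroup X))
    (hnorm : ∀ h x, (ρ h x).norm = x.norm)
    (hletter : ∀ h a, a.norm = 1 → ρ h a ≠ a⁻¹)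
    (c : H → FreeGroup X) (hc : ∀ g h, c (g * h) = c g * ρ g (c h)) :
    ∃ w, ∀ h, c h = w * (ρ h w)⁻¹ := by
  have hc1 : c 1 = 1 := by
    have := hc 1 1
    simpa using this
  obtain ⟨v, hv⟩ := tree_fixed_point (H := H) (fun h v => c h * ρ h v)
    (by intro v; simp [hc1])
    (by intro g h v; simp [hc, mul_assoc])
    (by
      intro h u v
      have e : (c h * ρ h u)⁻¹ * (c h * ρ h v) = ρ h (u⁻¹ * v) := by
        rw [map_mul, map_inv]; group
      rw [e, hnorm])
    (by
      intro h u v h1 h2 h3
      beta_reduce at h2 h3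
      apply hletter h (u⁻¹ * v) h1
      have e1 : ρ h u = (c h)⁻¹ * v := by rw [← h2]; group
      have e2 : ρ h v = (c h)⁻¹ * u := by rw [← h3]; group
      rw [map_mul, map_inv, e1, e2]; group)
  refine ⟨v, fun h => ?_⟩
  have := hv h
  beta_reduce at this
  rw [eq_mul_inv_iff_mul_eq]; exact this

/-- **Semidirect product form.** A finite subgroup `K` of `FreeGroup X ⋊[φ] Q` fixes a vertex
`v` of the Cayley tree (`k.left * φ k.right v = v`). -/
theorem semidirect_fixed {Q : Type*} [Group Q] (φ : Q →* MulAut (FreeGroup X))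
    (hnorm : ∀ q x, (φ q x).norm = x.norm)
    (hletter : ∀ q a, a.norm = 1 → φ q a ≠ a⁻¹)
    (K : Subgroup (FreeGroup X ⋊[φ] Q)) [Finite K] :
    ∃ v : FreeGroup X, ∀ k ∈ K, k.left * φ k.right v = v := by
  obtain ⟨v, hv⟩ := tree_fixed_point (H := K)
    (fun k v => (k : FreeGroup X ⋊[φ] Q).left * φ (k : FreeGroup X ⋊[φ] Q).right v)
    (by intro v; simp)
    (by intro g h v; simp [mul_assoc])
    (by
      intro h u v
      have e : (h.1.left * φ h.1.right u)⁻¹ * (h.1.left * φ h.1.right v)
          = φ h.1.right (u⁻¹ * v) := by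
        rw [map_mul, map_inv]; group
      rw [e, hnorm])
    (by
      intro h u v h1 h2 h3
      beta_reduce at h2 h3
      apply hletter h.1.right (u⁻¹ * v) h1
      have e1 : φ h.1.right u = h.1.left⁻¹ * v := by rw [← h2]; group
      have e2 : φ h.1.right v = h.1.left⁻¹ * u := by rw [← h3]; group
      rw [map_mul, map_inv, e1, e2]; group)
  exact ⟨v, fun k hk => hv ⟨k, hk⟩⟩

/-- **Conjugation form.** A finite subgroup `K` of `FreeGroup X ⋊[φ] Q` is conjugate, by an
element `inl v` of the free normal subgroup, into the complement `Q`. -/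
theorem semidirect_conj {Q : Type*} [Group Q] (φ : Q →* MulAut (FreeGroup X))
    (hnorm : ∀ q x, (φ q x).norm = x.norm)
    (hletter : ∀ q a, a.norm = 1 → φ q a ≠ a⁻¹)
    (K : Subgroup (FreeGroup X ⋊[φ] Q)) [Finite K] :
    ∃ v : FreeGroup X, ∀ k ∈ K,
      (SemidirectProduct.inl v : FreeGroup X ⋊[φ] Q)⁻¹ * k * SemidirectProduct.inl v
        = SemidirectProduct.inr k.right := by
  obtain ⟨v, hv⟩ := semidirect_fixed φ hnorm hletter K
  refine ⟨v, fun k hk => ?_⟩
  have h := hv k hk
  ext
  · simp only [SemidirectProduct.mul_left, SemidirectProduct.inv_left, SemidirectProduct.left_inl,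
      SemidirectProduct.right_inl, SemidirectProduct.mul_right, SemidirectProduct.inv_right,
      inv_one, map_one, MulAut.one_apply, one_mul, SemidirectProduct.left_inr]
    rw [mul_assoc, h, inv_mul_cancel]
  · simp

end Cfsg.Agent.Lib.Helper11.LSF
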