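import Mathlib

/-!
# A finite group acting on the Cayley tree of a free group (word norm only)

`tree_fixed_point`: a finite group acting on the set `FreeGroup X` by isometries of the word
metric `d(u,v) = (u⁻¹ * v).norm`, without inverting an edge, fixes a vertex.
-/

namespace Cfsg.Agent.Lib.Helper11.LSF

variable {X : Type*} [DecidableEq X]

/-- geometric key: if `|w| ≥ 2`, the first vertex `a` on the geodesic from `1` to `w` is
strictly closer to every vertex `o` than the farther of `1`, `w`. -/
theorem tree_key1 (w : FreeGroup X) (hw : 2 ≤ w.norm) :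
    ∃ a : FreeGroup X, ∀ o : FreeGroup X,
      (a⁻¹ * o).norm + 1 ≤ max o.norm (w⁻¹ * o).norm := by
  obtain ⟨l, w', hw'⟩ : ∃ l w', w.toWord = l :: w' := by
    cases h : w.toWord with
    | nil => simp [FreeGroup.norm, h] at hw
    | cons l w' => exact ⟨l, w', rfl⟩
  refine ⟨FreeGroup.mk [l], fun o => ?_⟩
  have ha : (FreeGroup.mk [l] : FreeGroup X).norm ≤ 1 := by
    simpa using (FreeGroup.norm_mk_le (L₁ := [l]))
  cases ho : o.toWord with
  | nil =>
    have h1 : o = 1 := FreeGroup.toWord_eq_nil_iff.mp ho
    subst h1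
    simp only [mul_one, FreeGroup.norm_inv_eq, FreeGroup.norm_one]
    rw [le_max_iff]; right; omega
  | cons l' o' =>
    by_cases hl : l' = l
    · subst hl
      have h1 : o = FreeGroup.mk [l'] * FreeGroup.mk o' := by
        rw [← FreeGroup.mk_toWord (x := o), ho]; rfl
      have h2 : (FreeGroup.mk [l'])⁻¹ * o = FreeGroup.mk o' := by rw [h1]; group
      have h3 : (FreeGroup.mk o' : FreeGroup X).norm ≤ o'.length := FreeGroup.norm_mk_le
      have h4 : o.norm = o'.length + 1 := by simp [FreeGroup.norm, ho]
      rw [h2, le_max_iff]; left; omega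
    · have h1 : ((FreeGroup.mk [l])⁻¹ * o).norm ≤ 1 + o.norm := by
        refine (FreeGroup.norm_mul_le _ _).trans ?_
        rw [FreeGroup.norm_inv_eq]; omega
      have h2 : (w⁻¹ * o).norm = w.norm + o.norm := by
        have hred : FreeGroup.IsReduced (FreeGroup.invRev w.toWord ++ o.toWord) := by
          have hw1 : FreeGroup.IsReduced (FreeGroup.invRev w.toWord) := by
            rw [← FreeGroup.toWord_inv]; exact FreeGroup.isReduced_toWord
          have ho1 : FreeGroup.IsReduced o.toWord := FreeGroup.isReduced_toWord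
          refine List.IsChain.append hw1 ho1 ?_
          intro x hx y hy
          rw [hw', FreeGroup.invRev_cons] at hx
          rw [ho] at hy
          simp [FreeGroup.invRev] at hx hy
          subst hx; subst hy
          intro h3
          simp only at h3 ⊢
          by_contra h4
          apply hl
          have : l'.2 = l.2 := by
            cases h5 : l.2 <;> cases h6 : l'.2 <;> simp_all
          exact Prod.ext h3.symm this
        simp only [FreeGroup.norm, FreeGroup.toWord_mul, FreeGroup.toWord_inv, hred.reduce_eq,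
          List.length_append, FreeGroup.invRev_length]
      rw [le_max_iff]; right; omega

/-- translated form: two vertices at distance `≥ 2` have a vertex strictly closer to every
`o` than the farther of the two. -/
theorem tree_key2 (u v : FreeGroup X) (huv : 2 ≤ (u⁻¹ * v).norm) :
    ∃ m : FreeGroup X, ∀ o : FreeGroup X,
      (m⁻¹ * o).norm + 1 ≤ max (u⁻¹ * o).norm (v⁻¹ * o).norm := by
  obtain ⟨a, ha⟩ := tree_key1 (u⁻¹ * v) huv
  refine ⟨u * a, fun o => ?_⟩
  have := ha (u⁻¹ * o)
  have e1 : (u * a)⁻¹ * o = a⁻¹ * (u⁻¹ * o) := by group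
  have e2 : (u⁻¹ * v)⁻¹ * (u⁻¹ * o) = v⁻¹ * o := by group
  rw [e1]; rw [e2] at this; exact this

/-- the parity of the word norm is a homomorphism. -/
theorem norm_parity (x y : FreeGroup X) :
    ((x * y).norm : ZMod 2) = (x.norm : ZMod 2) + (y.norm : ZMod 2) := by
  classical
  let f : FreeGroup X →* Multiplicative (ZMod 2) :=
    FreeGroup.lift (fun _ => Multiplicative.ofAdd (1 : ZMod 2))
  have hf : ∀ L : List (X × Bool), f (FreeGroup.mk L)
      = Multiplicative.ofAdd ((L.length : ℕ) : ZMod 2) := by
    intro L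
    induction L with
    | nil => simp [f]
    | cons a L ih =>
      have e : (FreeGroup.mk (a :: L) : FreeGroup X) = FreeGroup.mk [a] * FreeGroup.mk L := rfl
      rw [e, map_mul, ih]
      have h1 : f (FreeGroup.mk [a]) = Multiplicative.ofAdd (1 : ZMod 2) := by
        simp only [f, FreeGroup.lift_mk]
        rcases a with ⟨a, b⟩
        cases b
        · simp
          rw [← ofAdd_neg]; congr 1
        · simp
      rw [h1, ← ofAdd_add]
      congr 1
      rw [List.length_cons, Nat.cast_add, Nat.cast_one, add_comm]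
  have hg : ∀ z : FreeGroup X, f z = Multiplicative.ofAdd ((z.norm : ℕ) : ZMod 2) := by
    intro z
    conv_lhs => rw [← FreeGroup.mk_toWord (x := z)]
    rw [hf]; rfl
  have := map_mul f x y
  rw [hg, hg, hg, ← ofAdd_add] at this
  exact Multiplicative.ofAdd.injective this

/-- **Fixed point theorem.** A finite group acting on `FreeGroup X` by isometries of the word
metric, without inversions of edges, fixes a vertex. -/
theorem tree_fixed_point {H : Type*} [Group H] [Finite H]
    (act : H → FreeGroup X → FreeGroup X)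
    (hone : ∀ v, act 1 v = v)
    (hmul : ∀ g h v, act (g * h) v = act g (act h v))
    (hiso : ∀ h u v, ((act h u)⁻¹ * act h v).norm = (u⁻¹ * v).norm)
    (hinv : ∀ h u v, (u⁻¹ * v).norm = 1 → act h u = v → act h v = u → False) :
    ∃ v, ∀ h, act h v = v := by
  classical
  haveI : Fintype H := Fintype.ofFinite H
  -- radius function
  let r : FreeGroup X → ℕ := fun v => Finset.univ.sup (fun h : H => (v⁻¹ * act h 1).norm)
  have hr_le : ∀ v (n : ℕ), (∀ h : H, (v⁻¹ * act h 1).norm ≤ n) → r v ≤ n := by
    intro v n hn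
    exact Finset.sup_le (fun h _ => hn h)
  have hle_r : ∀ v (h : H), (v⁻¹ * act h 1).norm ≤ r v := by
    intro v h
    exact Finset.le_sup (f := fun h : H => (v⁻¹ * act h 1).norm) (Finset.mem_univ h)
  have hr_act_le : ∀ (g : H) v, r (act g v) ≤ r v := by
    intro g v
    refine hr_le _ _ (fun h => ?_)
    have e : act h 1 = act g (act (g⁻¹ * h) 1) := by
      rw [← hmul, mul_inv_cancel_left]
    rw [e, hiso]
    exact hle_r v _
  have hr_act : ∀ (g : H) v, r (act g v) = r v := by
    intro g v
    refine le_antisymm (hr_act_le g v) ?_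
    have := hr_act_le g⁻¹ (act g v)
    rwa [← hmul, inv_mul_cancel, hone] at this
  -- a minimizer
  obtain ⟨v, hv⟩ : ∃ v, ∀ v', r v ≤ r v' :=
    ⟨Function.argmin r, fun v' => Function.argmin_le r v'⟩
  -- two minimizers are at distance ≤ 1
  have hclose : ∀ u u', r u = r v → r u' = r v → (u⁻¹ * u').norm ≤ 1 := by
    intro u u' hu hu'
    by_contra hcon
    obtain ⟨m, hm⟩ := tree_key2 u u' (by omega)
    have h1 : r m + 1 ≤ r v := by
      have h0 : ∀ h : H, (m⁻¹ * act h 1).norm + 1 ≤ r v := by
        intro h
        refine (hm (act h 1)).trans ?_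
        rw [max_le_iff]
        exact ⟨hu ▸ hle_r u h, hu' ▸ hle_r u' h⟩
      have h2 := h0 1
      have : r m ≤ r v - 1 := hr_le _ _ (fun h => by have := h0 h; omega)
      omega
    have := hv m
    omega
  by_contra hno
  obtain ⟨h0, hh0⟩ : ∃ h0, act h0 v ≠ v := by
    by_contra hc
    push_neg at hc
    exact hno ⟨v, hc⟩
  have hinj : ∀ a b, act h0 a = act h0 b → a = b := by
    intro a b hab
    have := congrArg (act h0⁻¹) hab
    rwa [← hmul, ← hmul, inv_mul_cancel, hone, hone] at this
  have d1 : (v⁻¹ * act h0 v).norm = 1 := by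
    have := hclose v (act h0 v) rfl (hr_act h0 v)
    have h2 : (v⁻¹ * act h0 v).norm ≠ 0 := by
      rw [Ne, FreeGroup.norm_eq_zero, inv_mul_eq_one]
      exact fun h => hh0 h.symm
    omega
  have d2 : ((act h0 v)⁻¹ * act h0 (act h0 v)).norm = 1 := by rw [hiso]; exact d1
  have d3 : (v⁻¹ * act h0 (act h0 v)).norm ≤ 1 :=
    hclose v _ rfl (by rw [hr_act, hr_act])
  have d3' : (v⁻¹ * act h0 (act h0 v)).norm = 1 := by
    have h2 : (v⁻¹ * act h0 (act h0 v)).norm ≠ 0 := by
      rw [Ne, FreeGroup.norm_eq_zero, inv_mul_eq_one]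
      intro h
      exact hinv h0 v (act h0 v) d1 rfl h.symm
    omega
  have hp := norm_parity (v⁻¹ * act h0 v) ((act h0 v)⁻¹ * act h0 (act h0 v))
  have e : v⁻¹ * act h0 v * ((act h0 v)⁻¹ * act h0 (act h0 v)) = v⁻¹ * act h0 (act h0 v) := by
    group
  rw [e, d1, d2, d3'] at hp
  revert hp
  decide

end Cfsg.Agent.Lib.Helper11.LSF
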