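import Cfsg.Agent.Lib.Helper11.LSF.Cocyc
import Cfsg.Agent.Lib.Helper67.LSF.Defs

/-!
# LSF [TREE]: a finite subgroup of `FreeGroup X ⋊ Q` fixes a vertex of every invariant convex
set of vertices (unconditional)
-/

set_option autoImplicit false

namespace Cfsg.Agent.Lib.Helper11.LSF

open Cfsg.Agent.Lib.Helper67.LSF

universe u

section
variable {X : Type*} [DecidableEq X]

/-- `tree_key1` with the vertex made explicit: the first letter of `w`. -/
theorem tree_key1' (w : FreeGroup X) (l : X × Bool) (w' : List (X × Bool))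
    (hw' : w.toWord = l :: w') (hw : 2 ≤ w.norm) (o : FreeGroup X) :
    ((FreeGroup.mk [l])⁻¹ * o).norm + 1 ≤ max o.norm (w⁻¹ * o).norm := by
  have ha : (FreeGroup.mk [l] : FreeGroup X).norm ≤ 1 := by
    simpa using (FreeGroup.norm_mk_le (L₁ := [l]))
  cases ho : o.toWord with
  | nil =>
    have h1 : o = 1 := FreeGroup.toWord_eq_nil_iff.mp ho
    subst h1
    simp only [mul_one, FreeGroup.norm_inv_eq, FreeGroup.norm_one]
    rw [le_max_iff]; right; omega
  | cons l' o' =>
    by_cases hl : l' = l
    · subst hl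
      have h1 : o = FreeGroup.mk [l'] * FreeGroup.mk o' := by
        rw [← FreeGroup.mk_toWord (x := o), ho]; rfl
      have h2 : (FreeGroup.mk [l'])⁻¹ * o = FreeGroup.mk o' := by rw [h1]; group
      have h3 : (FreeGroup.mk o' : FreeGroup X).norm ≤ o'.length := FreeGroup.norm_mk_le
      have h4 : o.norm = o'.length + 1 := by simp [FreeGroup.norm, ho]
      rw [h2, le_max_iff]; left; omega
    · have h1 : ((FreeGroup.mk [l])⁻¹ * o).norm ≤ 1 + o.norm := by
        refine (FreeGroup.norm_mul_le _ _).trans ?_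
        rw [FreeGroup.norm_inv_eq]; omega
      have h2 : (w⁻¹ * o).norm = w.norm + o.norm := by
        have hred : FreeGroup.IsReduced (FreeGroup.invRev w.toWord ++ o.toWord) := by
          have hw1 : FreeGroup.IsReduced (FreeGroup.invRev w.toWord) := by
            rw [← FreeGroup.toWord_inv]; exact FreeGroup.isReduced_toWord
          have ho1 : FreeGroup.IsReduced o.toWord := FreeGroup.isReduced_toWord
          refine List.IsChain.append hw1 ho1 ?_
          intro x hx y hy
          rw [hw', FreeGroup.invRev_cons] at hx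
          rw [ho] at hy
          simp [FreeGroup.invRev] at hx hy
          subst hx; subst hy
          intro h3
          simp only at h3 ⊢
          by_contra h4
          apply hl
          have : l'.2 = l.2 := by
            cases h5 : l.2 <;> cases h6 : l'.2 <;> simp_all
          exact Prod.ext h3.symm this
        simp only [FreeGroup.norm, FreeGroup.toWord_mul, FreeGroup.toWord_inv, hred.reduce_eq,
          List.length_append, FreeGroup.invRev_length]
      rw [le_max_iff]; right; omega

/-- **Relative fixed point theorem.** A finite group acting on `FreeGroup X` by isometries of the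
word metric, without inversions of edges, fixes a vertex of every invariant convex set `V`. -/
theorem tree_fixed_point_in {H : Type*} [Group H] [Finite H]
    (act : H → FreeGroup X → FreeGroup X)
    (hone : ∀ v, act 1 v = v)
    (hmul : ∀ g h v, act (g * h) v = act g (act h v))
    (hiso : ∀ h u v, ((act h u)⁻¹ * act h v).norm = (u⁻¹ * v).norm)
    (hinv : ∀ h u v, (u⁻¹ * v).norm = 1 → act h u = v → act h v = u → False)
    (V : Set (FreeGroup X)) (h1V : (1 : FreeGroup X) ∈ V)
    (hVact : ∀ h, ∀ v ∈ V, act h v ∈ V)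
    (hconv : ∀ v ∈ V, ∀ L₁ L₂ : List (X × Bool), FreeGroup.IsReduced (L₁ ++ L₂) →
      v * FreeGroup.mk (L₁ ++ L₂) ∈ V → v * FreeGroup.mk L₁ ∈ V) :
    ∃ v ∈ V, ∀ h, act h v = v := by
  classical
  haveI : Fintype H := Fintype.ofFinite H
  let r : FreeGroup X → ℕ := fun v => Finset.univ.sup (fun h : H => (v⁻¹ * act h 1).norm)
  have hr_le : ∀ v (n : ℕ), (∀ h : H, (v⁻¹ * act h 1).norm ≤ n) → r v ≤ n := by
    intro v n hn
    exact Finset.sup_le (fun h _ => hn h)
  have hle_r : ∀ v (h : H), (v⁻¹ * act h 1).norm ≤ r v := by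
    intro v h
    exact Finset.le_sup (f := fun h : H => (v⁻¹ * act h 1).norm) (Finset.mem_univ h)
  have hr_act_le : ∀ (g : H) v, r (act g v) ≤ r v := by
    intro g v
    refine hr_le _ _ (fun h => ?_)
    have e : act h 1 = act g (act (g⁻¹ * h) 1) := by
      rw [← hmul, mul_inv_cancel_left]
    rw [e, hiso]
    exact hle_r v _
  have hr_act : ∀ (g : H) v, r (act g v) = r v := by
    intro g v
    refine le_antisymm (hr_act_le g v) ?_
    have := hr_act_le g⁻¹ (act g v)
    rwa [← hmul, inv_mul_cancel, hone] at this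
  -- a minimizer inside `V`
  haveI : Nonempty V := ⟨⟨1, h1V⟩⟩
  obtain ⟨v, hvV, hv⟩ : ∃ v ∈ V, ∀ v' ∈ V, r v ≤ r v' :=
    ⟨(Function.argmin (fun x : V => r x.1)).1, (Function.argmin (fun x : V => r x.1)).2,
      fun v' hv' => Function.argmin_le (fun x : V => r x.1) ⟨v', hv'⟩⟩
  -- two minimizers in `V` are at distance ≤ 1
  have hclose : ∀ u ∈ V, ∀ u' ∈ V, r u = r v → r u' = r v → (u⁻¹ * u').norm ≤ 1 := by
    intro u huV u' hu'V hu hu'
    by_contra hcon
    obtain ⟨l, w', hw'⟩ : ∃ l w', (u⁻¹ * u').toWord = l :: w' := by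
      cases h : (u⁻¹ * u').toWord with
      | nil => simp [FreeGroup.norm, h] at hcon
      | cons l w' => exact ⟨l, w', rfl⟩
    have hmV : u * FreeGroup.mk [l] ∈ V := by
      refine hconv u huV [l] w' ?_ ?_
      · rw [List.singleton_append, ← hw']; exact FreeGroup.isReduced_toWord
      · rw [List.singleton_append, ← hw', FreeGroup.mk_toWord, mul_inv_cancel_left]; exact hu'V
    have hm : ∀ o : FreeGroup X, ((u * FreeGroup.mk [l])⁻¹ * o).norm + 1
        ≤ max (u⁻¹ * o).norm (u'⁻¹ * o).norm := by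
      intro o
      have := tree_key1' (u⁻¹ * u') l w' hw' (by omega) (u⁻¹ * o)
      have e1 : (u * FreeGroup.mk [l])⁻¹ * o = (FreeGroup.mk [l])⁻¹ * (u⁻¹ * o) := by group
      have e2 : (u⁻¹ * u')⁻¹ * (u⁻¹ * o) = u'⁻¹ * o := by group
      rw [e1]; rw [e2] at this; exact this
    have h1 : r (u * FreeGroup.mk [l]) + 1 ≤ r v := by
      have h0 : ∀ h : H, ((u * FreeGroup.mk [l])⁻¹ * act h 1).norm + 1 ≤ r v := by
        intro h
        refine (hm (act h 1)).trans ?_
        rw [max_le_iff]
        exact ⟨hu ▸ hle_r u h, hu' ▸ hle_r u' h⟩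
      have h2 := h0 1
      have : r (u * FreeGroup.mk [l]) ≤ r v - 1 := hr_le _ _ (fun h => by have := h0 h; omega)
      omega
    have := hv _ hmV
    omega
  refine ⟨v, hvV, ?_⟩
  by_contra hno
  obtain ⟨h0, hh0⟩ : ∃ h0, act h0 v ≠ v := by
    by_contra hc
    push_neg at hc
    exact hno hc
  have hinj : ∀ a b, act h0 a = act h0 b → a = b := by
    intro a b hab
    have := congrArg (act h0⁻¹) hab
    rwa [← hmul, ← hmul, inv_mul_cancel, hone, hone] at this
  have hV1 : act h0 v ∈ V := hVact h0 v hvV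
  have hV2 : act h0 (act h0 v) ∈ V := hVact h0 _ hV1
  have d1 : (v⁻¹ * act h0 v).norm = 1 := by
    have := hclose v hvV (act h0 v) hV1 rfl (hr_act h0 v)
    have h2 : (v⁻¹ * act h0 v).norm ≠ 0 := by
      rw [Ne, FreeGroup.norm_eq_zero, inv_mul_eq_one]
      exact fun h => hh0 h.symm
    omega
  have d2 : ((act h0 v)⁻¹ * act h0 (act h0 v)).norm = 1 := by rw [hiso]; exact d1
  have d3 : (v⁻¹ * act h0 (act h0 v)).norm ≤ 1 :=
    hclose v hvV _ hV2 rfl (by rw [hr_act, hr_act])
  have d3' : (v⁻¹ * act h0 (act h0 v)).norm = 1 := by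
    have h2 : (v⁻¹ * act h0 (act h0 v)).norm ≠ 0 := by
      rw [Ne, FreeGroup.norm_eq_zero, inv_mul_eq_one]
      intro h
      exact hinv h0 v (act h0 v) d1 rfl h.symm
    omega
  have hp := norm_parity (v⁻¹ * act h0 v) ((act h0 v)⁻¹ * act h0 (act h0 v))
  have e : v⁻¹ * act h0 v * ((act h0 v)⁻¹ * act h0 (act h0 v)) = v⁻¹ * act h0 (act h0 v) := by
    group
  rw [e, d1, d2, d3'] at hp
  revert hp
  decide

end

/-- **[TREE]**, unconditional. -/
theorem pkgTree : PkgTree.{u} := by
  intro Q _ X α H _ V h1 hact hconv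
  classical
  have hnorm : ∀ (q : Q) (x : FreeGroup X), (autX α q x).norm = x.norm :=
    fun q x => norm_freeGroupCongr (α q) x
  have hletter : ∀ (q : Q) (a : FreeGroup X), a.norm = 1 → autX α q a ≠ a⁻¹ :=
    fun q a ha => freeGroupCongr_letter_ne (α q) a ha
  obtain ⟨v, hvV, hv⟩ := tree_fixed_point_in (H := H)
    (fun k v => (k : SemidirectProduct (FreeGroup X) Q (autX α)).left
      * autX α (k : SemidirectProduct (FreeGroup X) Q (autX α)).right v)
    (by intro v; simp)
    (by intro g h v; simp [mul_assoc])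
    (by
      intro h u v
      have e : (h.1.left * autX α h.1.right u)⁻¹ * (h.1.left * autX α h.1.right v)
          = autX α h.1.right (u⁻¹ * v) := by
        rw [map_mul, map_inv]; group
      rw [e, hnorm])
    (by
      intro h u v h1 h2 h3
      beta_reduce at h2 h3
      apply hletter h.1.right (u⁻¹ * v) h1
      have e1 : autX α h.1.right u = h.1.left⁻¹ * v := by rw [← h2]; group
      have e2 : autX α h.1.right v = h.1.left⁻¹ * u := by rw [← h3]; group
      rw [map_mul, map_inv, e1, e2]; group)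
    V h1 (fun h v hv => hact h.1 h.2 v hv) hconv
  exact ⟨v, hvV, fun h hh => hv ⟨h, hh⟩⟩

end Cfsg.Agent.Lib.Helper11.LSF
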